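import Mathlib
import Cfsg.Agent.Lib.Helper97.Ext.Defs

set_option autoImplicit false

/-! # S5877 farm (helper97), piece [B] (helper63) -/

namespace Cfsg.Agent.Lib.Helper63.Ext

/-- the commutator `a b a⁻¹ b⁻¹` -/
def Kc {Γ : Type*} [Group Γ] (a b : Γ) : Γ := a * b * a⁻¹ * b⁻¹

theorem Kc_eq_one_iff {Γ : Type*} [Group Γ] (a b : Γ) : Kc a b = 1 ↔ Commute a b := by
  unfold Kc
  constructor
  · intro h
    have : a * b = (a * b * a⁻¹ * b⁻¹) * (b * a) := by group
    rw [h, one_mul] at this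
    exact this
  · intro h
    have h' : a * b = b * a := h
    rw [h']; group

theorem Kc_mul_left {Γ : Type*} [Group Γ] (a b c : Γ) (hc : Kc b c ∈ Subgroup.center Γ) :
    Kc (a * b) c = Kc a c * Kc b c := by
  have hz : ∀ h, h * Kc b c = Kc b c * h := fun h => Subgroup.mem_center_iff.1 hc h
  calc Kc (a * b) c = a * Kc b c * (c * a⁻¹ * c⁻¹) := by unfold Kc; group
    _ = Kc b c * a * (c * a⁻¹ * c⁻¹) := by rw [hz a]
    _ = Kc b c * Kc a c := by unfold Kc; group
    _ = Kc a c * Kc b c := (hz _).symm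

theorem Kc_symm {Γ : Type*} [Group Γ] (a b : Γ) : Kc b a = (Kc a b)⁻¹ := by
  unfold Kc; group

theorem pair_lemma {Γ : Type*} [Group Γ] (E : Subgroup Γ) (g : Γ) (r ϖ : ℕ)
    (hco : Nat.Coprime ϖ r) (hodd : Odd ϖ) (hgϖ : g ^ ϖ = 1)
    (hgE : ∀ a ∈ E, g * a * g⁻¹ ∈ E)
    (hK : ∀ a ∈ E, ∀ b ∈ E, a * b * a⁻¹ * b⁻¹ ∈ Subgroup.center Γ ∧ (a * b * a⁻¹ * b⁻¹) ^ r = 1)
    (hfix : ∀ x ∈ E, ∀ j : ℕ,
      Commute (x⁻¹ * (g * x * g⁻¹)) (x⁻¹ * (g ^ j * x * (g ^ j)⁻¹))) :
    ∀ x ∈ E, ∀ y ∈ E, Commute x (g * y * g⁻¹ * y⁻¹) := by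
  let k : E → E → Subgroup.center Γ := fun a b => ⟨Kc (a : Γ) (b : Γ), (hK a a.2 b b.2).1⟩
  have hkval : ∀ a b : E, ((k a b : Subgroup.center Γ) : Γ) = Kc (a : Γ) (b : Γ) := fun _ _ => rfl
  have hL : ∀ a b c : E, k (a * b) c = k a c * k b c := by
    intro a b c
    apply Subtype.ext
    exact Kc_mul_left (a : Γ) (b : Γ) (c : Γ) (hK b b.2 c c.2).1
  have hS : ∀ a b : E, k b a = (k a b)⁻¹ := by
    intro a b
    apply Subtype.ext
    exact Kc_symm (a : Γ) (b : Γ)
  have hR : ∀ a b c : E, k a (b * c) = k a b * k a c := by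
    intro a b c
    rw [hS (b * c) a, hL, mul_inv_rev, ← hS, ← hS]
    exact mul_comm' (k a c) (k a b)
  have h1 : ∀ a : E, k a a = 1 := by
    intro a
    apply Subtype.ext
    exact (Kc_eq_one_iff _ _).2 (Commute.refl _)
  have hone : ∀ b : E, k 1 b = 1 := by
    intro b
    apply Subtype.ext
    exact (Kc_eq_one_iff _ _).2 (Commute.one_left _)
  have hLi : ∀ a b : E, k a⁻¹ b = (k a b)⁻¹ := by
    intro a b
    have := hL a⁻¹ a b
    rw [inv_mul_cancel, hone] at this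
    exact eq_inv_of_mul_eq_one_left this.symm
  have hRi : ∀ a b : E, k a b⁻¹ = (k a b)⁻¹ := by
    intro a b
    rw [hS b⁻¹ a, hLi, ← hS]
  let σ : E → E := fun a => ⟨g * a * g⁻¹, hgE a a.2⟩
  have hσk : ∀ a b : E, k (σ a) (σ b) = k a b := by
    intro a b
    apply Subtype.ext
    have hz := Subgroup.mem_center_iff.1 (hK a a.2 b b.2).1 g
    show Kc (g * (a : Γ) * g⁻¹) (g * (b : Γ) * g⁻¹) = Kc (a : Γ) (b : Γ)
    calc Kc (g * (a : Γ) * g⁻¹) (g * (b : Γ) * g⁻¹) = g * Kc (a : Γ) (b : Γ) * g⁻¹ := by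
          unfold Kc; group
      _ = Kc (a : Γ) (b : Γ) := by
          have hz' : g * Kc (a : Γ) (b : Γ) = Kc (a : Γ) (b : Γ) * g := hz
          rw [hz']; group
  have hσmul : ∀ a b : E, σ (a * b) = σ a * σ b := by
    intro a b
    apply Subtype.ext
    show g * ((a : Γ) * (b : Γ)) * g⁻¹ = (g * (a : Γ) * g⁻¹) * (g * (b : Γ) * g⁻¹)
    group
  have hσit : ∀ (j : ℕ) (a : E), ((σ^[j] a : E) : Γ) = g ^ j * (a : Γ) * (g ^ j)⁻¹ := by
    intro j
    induction j with
    | zero => intro a; simp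
    | succ j ih =>
      intro a
      rw [Function.iterate_succ_apply']
      show g * ((σ^[j] a : E) : Γ) * g⁻¹ = _
      rw [ih, pow_succ']
      group
  have hfix' : ∀ (x : E) (j : ℕ), k (x⁻¹ * σ x) (x⁻¹ * σ^[j] x) = 1 := by
    intro x j
    apply Subtype.ext
    apply (Kc_eq_one_iff _ _).2
    have := hfix x x.2 j
    show Commute ((x : Γ)⁻¹ * (g * (x : Γ) * g⁻¹)) ((x : Γ)⁻¹ * ((σ^[j] x : E) : Γ))
    rw [hσit]
    exact this
  -- step (2), (3)
  have hstar : ∀ x : E, k x (σ x) = 1 := by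
    intro x
    have hrec : ∀ j, k x (σ^[j + 1] x) = k x (σ x) * k x (σ^[j] x) := by
      intro j
      have h := hfix' x (j + 1)
      rw [hL, hR, hR, h1, hLi, hRi, hS x (σ x), inv_inv, Function.iterate_succ_apply' σ j x, hσk,
        one_mul] at h
      rw [Function.iterate_succ_apply' σ j x]
      exact (inv_mul_eq_one.1 h)
    have hpow : ∀ j, k x (σ^[j] x) = (k x (σ x)) ^ j := by
      intro j
      induction j with
      | zero => simpa using h1 x
      | succ j ih => rw [hrec, ih, pow_succ']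
    have hϖ : (k x (σ x)) ^ ϖ = 1 := by
      rw [← hpow]
      have : σ^[ϖ] x = x := by
        apply Subtype.ext
        rw [hσit, hgϖ]; group
      rw [this, h1]
    have hr : (k x (σ x)) ^ r = 1 := by
      apply Subtype.ext
      exact (hK x x.2 (σ x) (σ x).2).2
    have hd1 := orderOf_dvd_of_pow_eq_one hϖ
    have hd2 := orderOf_dvd_of_pow_eq_one hr
    have hd3 := Nat.dvd_gcd hd1 hd2
    rw [Nat.Coprime] at hco
    rw [hco, Nat.dvd_one] at hd3
    exact orderOf_eq_one_iff.1 hd3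
  -- step (4)
  have hpol : ∀ x y : E, k x (σ y) = k (σ x) y := by
    intro x y
    have h := hstar (x * y)
    rw [hσmul, hL, hR, hR, hstar, hstar, one_mul, mul_one] at h
    rw [hS y (σ x)]
    exact eq_inv_of_mul_eq_one_left h
  have h2 : ∀ x y : E, k x (σ (σ y)) = k x y := by
    intro x y
    rw [hpol, hσk]
  have h2j : ∀ (j : ℕ) (x y : E), k x (σ^[2 * j] y) = k x y := by
    intro j
    induction j with
    | zero => intro x y; rfl
    | succ j ih =>
      intro x y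
      have : 2 * (j + 1) = (2 * j + 1) + 1 := by ring
      rw [this, Function.iterate_succ_apply', Function.iterate_succ_apply', h2, ih]
  have hfin : ∀ x y : E, k x (σ y) = k x y := by
    intro x y
    obtain ⟨m, hm⟩ := hodd
    have h := h2j (m + 1) x y
    have : σ^[2 * (m + 1)] y = σ y := by
      apply Subtype.ext
      rw [hσit]
      have e : 2 * (m + 1) = ϖ + 1 := by omega
      rw [e, pow_succ, hgϖ, one_mul]
    rw [this] at h
    exact h
  intro x hx y hy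
  have h := hfin ⟨x, hx⟩ ⟨y, hy⟩
  have h3 : k ⟨x, hx⟩ (σ ⟨y, hy⟩ * (⟨y, hy⟩ : E)⁻¹) = 1 := by
    rw [hR, hRi, h, mul_inv_cancel]
  have h4 := congrArg Subtype.val h3
  exact (Kc_eq_one_iff _ _).1 h4

end Cfsg.Agent.Lib.Helper63.Ext
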